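import Groth.Agent.VBLib.DualDeg
import Groth.Agent.VBLib.GenusZero
import Groth.Agent.VBLib.Curry
import Groth.Agent.HomShEval.QCoh
import Groth.Agent.KFlat.TensorLocFree
import Groth.Agent.KFlat.StalkTensor
import Mathlib.LinearAlgebra.Contraction

/-!
# The sheaf Hom of vector bundles

Maps out of a tensor product from pairings of sections, the comparison `F^∨ ⊗ G ⟶ 𝓗om(F, G)`,
global sections of the sheaf Hom as morphisms, and the biduality map into a sheaf Hom.
-/

universe u

open CategoryTheory AlgebraicGeometry Limits Opposite TopologicalSpace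
open Groth.Agent.PullStalk.Sky Groth.Agent.PullStalk.Exact Groth.Agent.QCoh
open Groth.Agent.KFlat.StalkTensor
open Groth.Agent.KFlat (preAdj)
open scoped TensorProduct

noncomputable section

namespace Groth.Agent.VBHom27

variable {X : Scheme.{u}}

section tensLift

variable {M N P : X.Modules} (B : ∀ U : X.Opens, Γ(M, U) →ₗ[Γ(X, U)] Γ(N, U) →ₗ[Γ(X, U)] Γ(P, U))
  (hB : ∀ (U V : X.Opens) (h : V ≤ U) (m : Γ(M, U)) (n : Γ(N, U)),
    res P h (B U m n) = B V (res M h m) (res N h n))

/-- The value of a pairing as a map of the presheaf tensor product, on an open. -/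
def liftPreSec (U : X.Opensᵒᵖ) :
    (tensP M N).obj U ⟶ ((ModSite.toPre X.sheaf).obj P).obj U :=
  ModuleCat.ofHom (TensorProduct.lift (LinearMap.mk₂ (X.sheaf.obj.obj U)
    (fun (m : ((ModSite.toPre X.sheaf).obj M).obj U) (n : ((ModSite.toPre X.sheaf).obj N).obj U) =>
      show ((ModSite.toPre X.sheaf).obj P).obj U from B U.unop m n)
    (fun m m' n => LinearMap.congr_fun (map_add (B U.unop) m m') n)
    (fun r m n => LinearMap.congr_fun
      (map_smul (B U.unop) (show Γ(X, U.unop) from r) (show Γ(M, U.unop) from m)) n)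
    (fun m n n' => map_add (B U.unop m) n n')
    (fun r m n => map_smul (B U.unop m) (show Γ(X, U.unop) from r) (show Γ(N, U.unop) from n))))

/-- A pairing as a map of the presheaf tensor product. -/
def liftPre : tensP M N ⟶ (ModSite.toPre X.sheaf).obj P where
  app U := liftPreSec B U
  naturality {U V} i := by
    refine ModuleCat.hom_ext (LinearMap.ext fun z => ?_)
    induction z using TensorProduct.induction_on with
    | zero => exact (map_zero _).trans (map_zero _).symm
    | tmul m n => exact (hB U.unop V.unop i.unop.le m n).symm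
    | add a b ha hb => exact (map_add _ a b).trans ((congrArg₂ (· + ·) ha hb).trans (map_add _ a b).symm)

/-- The map out of the tensor product given by a pairing of sections. -/
def tensLift : tensM M N ⟶ P := ((preAdj X.sheaf).homEquiv (tensP M N) P).symm (liftPre B hB)

lemma tensLift_app (U : X.Opens) (m : Γ(M, U)) (n : Γ(N, U)) :
    (tensLift B hB).app U (tmulSec U m n) = B U m n := by
  have h := ((preAdj X.sheaf).homEquiv (tensP M N) P).apply_symm_apply (liftPre B hB)
  rw [Adjunction.homEquiv_unit] at h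
  exact congrArg (fun φ => PresheafOfModules.Hom.app φ (op U)
    ((show ((ModSite.toPre X.sheaf).obj M).obj (op U) from m) ⊗ₜ[X.sheaf.obj.obj (op U)]
      (show ((ModSite.toPre X.sheaf).obj N).obj (op U) from n))) h

lemma stalkLin_tensLift (x : X) (U : X.Opens) (hx : x ∈ U) (m : Γ(M, U)) (n : Γ(N, U)) :
    stalkLin (tensLift B hB) x (tgerm M N x U hx m n) = germM P U x hx (B U m n) := by
  rw [tgerm, stalkLin_germ]
  exact congrArg (germM P U x hx) (tensLift_app B hB U m n)

end tensLift

section cmp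

variable (F G : X.Modules)

/-- The rank one map of stalks attached to a form and a section. -/
def rankOneAt {U : X.Opens} (θ : Γ(RefHull.dual F, U)) (g : Γ(G, U)) (y : U) : RefHull.StalkHom F G y.1 :=
  (LinearMap.toSpanSingleton (X.presheaf.stalk y.1) _ (germM G U y.1 y.2 g)).comp
    ((HomShQC.unitStalk y.1).symm.toLinearMap.comp (θ.1 y))

lemma isLocSect_rankOneAt {U : X.Opens} (θ : Γ(RefHull.dual F, U)) (g : Γ(G, U)) :
    RefHull.IsLocSect F G (rankOneAt F G θ g) := by
  intro V i m x
  obtain ⟨W, hW, j, n, hn⟩ := RefHull.isLocSect_of_mem θ V i m x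
  refine ⟨W, hW, j, (show Γ(X, W) from n) • res G (j.le.trans i.le) g, fun y => ?_⟩
  have h1 : (HomShQC.unitStalk y.1).symm ((θ.1 ⟨y.1, i.le (j.le y.2)⟩) (germM F V y.1 (j.le y.2) m)) =
      X.presheaf.germ W y.1 y.2 (show Γ(X, W) from n) := by
    rw [LinearEquiv.symm_apply_eq, HomShQC.unitStalk_germ]
    exact hn y
  show rankOneAt F G θ g ⟨y.1, i.le (j.le y.2)⟩ (germM F V y.1 (j.le y.2) m) = germM G W y.1 y.2 _
  rw [rankOneAt, LinearMap.comp_apply, LinearMap.comp_apply, LinearEquiv.coe_toLinearMap, h1,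
    LinearMap.toSpanSingleton_apply, germM_smul, HomShQC.germM_res]

/-- The pairing `(θ, g) ↦ θ(-) g`. -/
def rankOne (U : X.Opens) :
    Γ(RefHull.dual F, U) →ₗ[Γ(X, U)] Γ(G, U) →ₗ[Γ(X, U)] Γ(RefHull.homSh F G, U) :=
  LinearMap.mk₂ _ (fun θ g => (⟨rankOneAt F G θ g, isLocSect_rankOneAt F G θ g⟩ : Γ(RefHull.homSh F G, U)))
    (fun θ θ' g => Subtype.ext <| funext fun y => LinearMap.ext fun v => by
      show rankOneAt F G (θ + θ') g y v = rankOneAt F G θ g y v + rankOneAt F G θ' g y v
      simp only [rankOneAt, LinearMap.comp_apply, LinearEquiv.coe_toLinearMap,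
        show (θ + θ').1 y v = θ.1 y v + θ'.1 y v from rfl, map_add])
    (fun r θ g => Subtype.ext <| funext fun y => LinearMap.ext fun v => by
      show rankOneAt F G (r • θ) g y v = X.presheaf.germ U y.1 y.2 r • rankOneAt F G θ g y v
      simp only [rankOneAt, LinearMap.comp_apply, LinearEquiv.coe_toLinearMap,
        show (r • θ).1 y v = X.presheaf.germ U y.1 y.2 r • θ.1 y v from rfl, map_smul])
    (fun θ g g' => Subtype.ext <| funext fun y => LinearMap.ext fun v => by
      show rankOneAt F G θ (g + g') y v = rankOneAt F G θ g y v + rankOneAt F G θ g' y v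
      simp only [rankOneAt, LinearMap.comp_apply, LinearMap.toSpanSingleton_apply,
        show germM G U y.1 y.2 (g + g') = germM G U y.1 y.2 g + germM G U y.1 y.2 g' from
          map_add (G.presheaf.germ U y.1 y.2).hom g g', smul_add])
    (fun r θ g => Subtype.ext <| funext fun y => LinearMap.ext fun v => by
      show rankOneAt F G θ (r • g) y v = X.presheaf.germ U y.1 y.2 r • rankOneAt F G θ g y v
      simp only [rankOneAt, LinearMap.comp_apply, LinearMap.toSpanSingleton_apply, germM_smul]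
      exact smul_comm _ _ _)

lemma res_rankOne (U V : X.Opens) (h : V ≤ U) (θ : Γ(RefHull.dual F, U)) (g : Γ(G, U)) :
    res (RefHull.homSh F G) h (rankOne F G U θ g) =
      rankOne F G V (res (RefHull.dual F) h θ) (res G h g) :=
  Subtype.ext <| funext fun y => by
    show rankOneAt F G θ g ⟨y.1, h y.2⟩ = rankOneAt F G (res (RefHull.dual F) h θ) (res G h g) y
    simp only [rankOneAt, HomShQC.germM_res]
    rfl

/-- The comparison `F^∨ ⊗ G ⟶ 𝓗om(F, G)`. -/
def cmp : tensM (RefHull.dual F) G ⟶ RefHull.homSh F G := tensLift (rankOne F G) (res_rankOne F G)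

lemma evalStalk_cmp (x : X) (hF : CohB1.IsFP F) (θ : (RefHull.dual F).presheaf.stalk x)
    (g : G.presheaf.stalk x) :
    RefHull.evalStalk F G x (stalkLin (cmp F G) x (fromTensor (RefHull.dual F) G x (θ ⊗ₜ g))) =
      dualTensorHom _ _ _ (HomShQC.dualEquiv F hF x θ ⊗ₜ g) := by
  obtain ⟨U, hx, a, b, rfl, rfl⟩ := exists_rep θ g
  rw [fromTensor_germ, cmp, stalkLin_tensLift]
  refine (RefHull.evalStalk_germ F G x hx _).trans (LinearMap.ext fun v => ?_)
  rw [dualTensorHom_apply, HomShQC.dualEquiv_apply]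
  show (HomShQC.unitStalk x).symm (a.1 ⟨x, hx⟩ v) • germM G U x hx b = _
  rw [← RefHull.evalStalk_germ F (Coh.structureModule X) x hx a]

variable {F} in
/-- For a vector bundle `F` the comparison is an isomorphism. -/
theorem isIso_cmp [IsLocallyNoetherian X] (hF : FlatMod.IsFinLocFree F) : IsIso (cmp F G) := by
  have hFc := VBLib.isCoh_of_isFinLocFree hF
  haveI := hFc.1
  have hfp := HomShQC.isFP_of_isCoh F hFc
  refine Omega.Stalks.isIso_of_stalk fun x => ?_
  obtain ⟨h1, h2⟩ := Props.QProj.free_stalk F hF x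
  haveI := h1
  haveI := h2
  let e₁ : (tensM (RefHull.dual F) G).presheaf.stalk x ≃ₗ[X.presheaf.stalk x]
      Module.Dual (X.presheaf.stalk x) (F.presheaf.stalk x) ⊗[X.presheaf.stalk x] G.presheaf.stalk x :=
    (stalkTensorEquiv (RefHull.dual F) G x).trans
      (TensorProduct.congr (HomShQC.dualEquiv F hfp x) (LinearEquiv.refl _ _))
  let Φ := (RefHull.evalStalk F G x).comp (stalkLin (cmp F G) x)
  have key : ∀ t, Φ t = dualTensorHomEquiv _ _ _ (e₁ t) := by
    intro t
    obtain ⟨z, rfl⟩ := (stalkTensorEquiv (RefHull.dual F) G x).symm.surjective t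
    induction z using TensorProduct.induction_on with
    | zero => simp
    | tmul θ g =>
      show Φ (fromTensor (RefHull.dual F) G x (θ ⊗ₜ g)) = _
      rw [show Φ (fromTensor (RefHull.dual F) G x (θ ⊗ₜ g)) = _ from evalStalk_cmp F G x hfp θ g]
      have : e₁ ((stalkTensorEquiv (RefHull.dual F) G x).symm (θ ⊗ₜ g)) =
          HomShQC.dualEquiv F hfp x θ ⊗ₜ g := by simp [e₁]
      rw [this]
      rfl
    | add a b ha hb => simp only [map_add, ha, hb]
  have hΦ : Function.Bijective Φ := by
    rw [show (⇑Φ) = ⇑(e₁.trans (dualTensorHomEquiv _ _ _)) from funext key]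
    exact (e₁.trans (dualTensorHomEquiv _ _ _)).bijective
  exact (Function.Bijective.of_comp_iff' (HomShQC.evalStalk_bijective F G hfp x) _).1 hΦ

variable {F G} in
/-- `F^∨ ⊗ G ≅ 𝓗om(F, G)`. -/
theorem nonempty_cmp_iso [IsLocallyNoetherian X] (hF : FlatMod.IsFinLocFree F) :
    Nonempty (tensM (RefHull.dual F) G ≅ RefHull.homSh F G) := by
  haveI := isIso_cmp G hF
  exact ⟨asIso (cmp F G)⟩

end cmp

section sections

variable {F G : X.Modules}

/-- A global section of the sheaf Hom as a morphism. -/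
def homOf (s : Γ(RefHull.homSh F G, ⊤)) : F ⟶ G :=
  ⟨PresheafOfModules.homMk
    { app := fun U => AddCommGrpCat.ofHom
        (HomShQC.sec F G (res (RefHull.homSh F G) (le_top : U.unop ≤ ⊤) s)).toAddMonoidHom
      naturality := fun {U V} i => by
        ext (m : Γ(F, U.unop))
        refine HomShQC.sec_ext G fun y hy => ?_
        show germM G V.unop y hy (HomShQC.sec F G (res (RefHull.homSh F G) le_top s) (res F i.unop.le m)) =
          germM G V.unop y hy (res G i.unop.le (HomShQC.sec F G (res (RefHull.homSh F G) le_top s) m))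
        rw [HomShQC.germM_res, HomShQC.germM_sec F G _ _ ⟨y, hy⟩,
          HomShQC.germM_sec F G _ _ ⟨y, i.unop.le hy⟩, HomShQC.germM_res]
        rfl }
    fun U r m => map_smul (HomShQC.sec F G (res (RefHull.homSh F G) (le_top : U.unop ≤ ⊤) s))
      (show Γ(X, U.unop) from r) (show Γ(F, U.unop) from m)⟩

lemma stalkLin_homOf (s : Γ(RefHull.homSh F G, ⊤)) (x : X) (t : F.presheaf.stalk x) :
    stalkLin (homOf s) x t = s.1 ⟨x, trivial⟩ t := by
  obtain ⟨U, hx, m, rfl⟩ := exists_germM_eq F x t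
  rw [stalkLin_germ]
  exact HomShQC.germM_sec F G _ m ⟨x, hx⟩

lemma homOf_injective (s : Γ(RefHull.homSh F G, ⊤)) (h : homOf s = 0) : s = 0 := by
  refine Subtype.ext (funext fun y => LinearMap.ext fun t => ?_)
  show s.1 ⟨y.1, trivial⟩ t = 0
  rw [← stalkLin_homOf, h]
  exact Omega.Stalks.stalkLin_zero y.1 t

lemma homOf_add (s t : Γ(RefHull.homSh F G, ⊤)) : homOf (s + t) = homOf s + homOf t :=
  Omega.Stalks.hom_ext_stalk fun x => LinearMap.ext fun v => by
    rw [stalkLin_homOf, VBLib.GenusZero.stalkLin_add_apply, stalkLin_homOf, stalkLin_homOf]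
    rfl

lemma homOf_smul (k : Type u) [Field k] [X.Over (Spec (CommRingCat.of k))] (c : k)
    (s : Γ(RefHull.homSh F G, ⊤)) :
    homOf ((show Γ(X, ⊤) from Coh.toGlobal (X ↘ Spec (CommRingCat.of k)) c) • s) = c • homOf s :=
  Omega.Stalks.hom_ext_stalk fun x => LinearMap.ext fun v => by
    rw [stalkLin_homOf, VBLib.GenusZero.stalkLin_smul_apply, stalkLin_homOf]
    rfl

/-- The global section of a morphism. -/
def secOf (φ : F ⟶ G) : Γ(RefHull.homSh F G, ⊤) :=
  ⟨fun x => RefHull.stalkMapₗ φ x.1, fun V i m x => ⟨V, x.2, 𝟙 V, φ.app V m, fun y => by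
    rw [RefHull.stalkMapₗ_germ]⟩⟩

lemma homOf_secOf (φ : F ⟶ G) : homOf (secOf φ) = φ :=
  Omega.Stalks.hom_ext_stalk fun x => LinearMap.ext fun t => by
    rw [stalkLin_homOf]
    obtain ⟨U, hx, m, rfl⟩ := exists_germM_eq F x t
    rw [stalkLin_germ]
    exact RefHull.stalkMapₗ_germ φ x hx m

end sections

section bidual

variable (F G : X.Modules)

/-- Evaluation pairing. -/
def evalPair (U : X.Opens) :
    Γ(F, U) →ₗ[Γ(X, U)] Γ(RefHull.homSh F G, U) →ₗ[Γ(X, U)] Γ(G, U) := (HomShQC.sec F G).flip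

lemma res_evalPair (U V : X.Opens) (h : V ≤ U) (m : Γ(F, U)) (θ : Γ(RefHull.homSh F G, U)) :
    res G h (evalPair F G U m θ) = evalPair F G V (res F h m) (res (RefHull.homSh F G) h θ) :=
  HomShQC.sec_ext G fun y hy => by
    show germM G V y hy (res G h (HomShQC.sec F G θ m)) =
      germM G V y hy (HomShQC.sec F G (res (RefHull.homSh F G) h θ) (res F h m))
    rw [HomShQC.germM_res, HomShQC.germM_sec F G _ _ ⟨y, hy⟩, HomShQC.germM_sec F G _ _ ⟨y, h hy⟩,
      HomShQC.germM_res]
    rfl

/-- The biduality map with values in `G`. -/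
def toBidual : F ⟶ RefHull.homSh (RefHull.homSh F G) G :=
  VBLib.Curry.hom (evalPair F G) (res_evalPair F G)

lemma evalStalk_toBidual (x : X) (t : F.presheaf.stalk x) (θ : (RefHull.homSh F G).presheaf.stalk x) :
    RefHull.evalStalk (RefHull.homSh F G) G x (stalkLin (toBidual F G) x t) θ =
      RefHull.evalStalk F G x θ t := by
  obtain ⟨U, hx, m, rfl⟩ := exists_germM_eq F x t
  obtain ⟨V, hxV, s, rfl⟩ := exists_germM_eq (RefHull.homSh F G) x θ
  rw [stalkLin_germ]
  refine (LinearMap.congr_fun (RefHull.evalStalk_germ _ G x hx _) _).trans ?_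
  rw [← HomShQC.germM_res (RefHull.homSh F G) (inf_le_right : U ⊓ V ≤ V) x ⟨hx, hxV⟩ s]
  refine (VBLib.Curry.hom_germ (evalPair F G) (res_evalPair F G) m ⟨x, hx⟩ (U ⊓ V) inf_le_left
    ⟨hx, hxV⟩ _).trans ?_
  refine (HomShQC.germM_sec F G (U := U ⊓ V) _ _ ⟨x, hx, hxV⟩).trans ?_
  rw [HomShQC.germM_res]
  refine Eq.trans ?_ (LinearMap.congr_fun (RefHull.evalStalk_germ F G x (U := U ⊓ V) ⟨hx, hxV⟩ (res (RefHull.homSh F G) inf_le_right s)).symm _)
  rfl

variable {F G} in
/-- Biduality into a line bundle is injective on vector bundles. -/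
theorem mono_toBidual [IsLocallyNoetherian X] (hF : FlatMod.IsFinLocFree F) (hG : PicF.IsInvertible G) :
    Mono (toBidual F G) := by
  have hFc := VBLib.isCoh_of_isFinLocFree hF
  haveI := hFc.1
  haveI := (VBLib.isCoh_of_ofRank (VBLib.ofRank_one_of_invertible hG)).1
  refine Omega.Stalks.mono_of_stalk fun x => (injective_iff_map_eq_zero _).2 fun t ht => ?_
  obtain ⟨h1, h2⟩ := Props.QProj.free_stalk F hF x
  haveI := h1
  obtain ⟨U, hx, e, he⟩ : ∃ (U : X.Opens) (hx : x ∈ U) (e : Γ(G, U)), Props.GenLocus.IsGen G U e := by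
    obtain ⟨U, e, hx, he⟩ := Props.GenLocus.exists_isGen hG x
    exact ⟨U, hx, e, he⟩
  let u : X.presheaf.stalk x ≃ₗ[X.presheaf.stalk x] G.presheaf.stalk x :=
    LinearEquiv.ofBijective (LinearMap.toSpanSingleton _ _ (germM G U x hx e)) (VBLib.GenusZero.bijective_smul_germ he x hx)
  refine (Module.forall_dual_apply_eq_zero_iff (X.presheaf.stalk x) t).1 fun f => ?_
  obtain ⟨θ, hθ⟩ := (HomShQC.evalStalk_bijective F G (HomShQC.isFP_of_isCoh F hFc) x).2
    (u.toLinearMap.comp f)
  have := evalStalk_toBidual F G x t θ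
  rw [ht, map_zero, hθ] at this
  exact u.map_eq_zero_iff.1 this.symm

end bidual

section post

variable {F A B : X.Modules}

/-- Postcomposition on the sheaf Hom, on an open. -/
def postFun (g : A ⟶ B) (U : X.Opens) : Γ(RefHull.homSh F A, U) →+ Γ(RefHull.homSh F B, U) where
  toFun h := ⟨fun x => (RefHull.stalkMapₗ g x.1).comp (h.1 x), fun V i m x => by
    obtain ⟨W, hW, j, n, w⟩ := RefHull.isLocSect_of_mem h V i m x
    refine ⟨W, hW, j, g.app W n, fun y => ?_⟩
    rw [LinearMap.comp_apply, w y, RefHull.stalkMapₗ_germ]⟩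
  map_zero' := Subtype.ext <| funext fun _ => LinearMap.comp_zero _
  map_add' _ _ := Subtype.ext <| funext fun _ => LinearMap.comp_add _ _ _

/-- Postcomposition on the sheaf Hom. -/
def postMap (F : X.Modules) (g : A ⟶ B) : RefHull.homSh F A ⟶ RefHull.homSh F B :=
  ⟨PresheafOfModules.homMk
    { app := fun U => AddCommGrpCat.ofHom (postFun g U.unop)
      naturality := fun {U V} i => by ext h; rfl }
    (fun U r h => Subtype.ext <| funext fun x => LinearMap.comp_smul _ _ _)⟩

lemma stalkMapₗ_eq (g : A ⟶ B) (x : X) : RefHull.stalkMapₗ g x = stalkLin g x := LinearMap.ext fun t => by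
  obtain ⟨U, hx, m, rfl⟩ := exists_germM_eq A x t
  rw [stalkLin_germ]
  exact RefHull.stalkMapₗ_germ g x hx m

lemma evalStalk_postMap (g : A ⟶ B) (x : X) (θ : (RefHull.homSh F A).presheaf.stalk x) :
    RefHull.evalStalk F B x (stalkLin (postMap F g) x θ) =
      (stalkLin g x).comp (RefHull.evalStalk F A x θ) := by
  obtain ⟨U, hx, h, rfl⟩ := exists_germM_eq (RefHull.homSh F A) x θ
  rw [stalkLin_germ]
  refine (RefHull.evalStalk_germ F B x hx _).trans ?_
  refine Eq.trans ?_ (congrArg (fun l => LinearMap.comp (stalkLin g x) l) (RefHull.evalStalk_germ F A x hx h).symm)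
  rw [← stalkMapₗ_eq]
  rfl

lemma homOf_postMap (g : A ⟶ B) (s : Γ(RefHull.homSh F A, ⊤)) :
    homOf ((postMap F g).app ⊤ s) = homOf s ≫ g :=
  Omega.Stalks.hom_ext_stalk fun x => LinearMap.ext fun t => by
    rw [stalkLin_homOf, VBLib.GenusZero.stalkLin_comp_apply, stalkLin_homOf, ← stalkMapₗ_eq]
    rfl

/-- `𝓗om(F, -)` is exact for a vector bundle `F`. -/
theorem shortExact_postMap [IsLocallyNoetherian X] {F : X.Modules} (hF : FlatMod.IsFinLocFree F)
    {S : ShortComplex X.Modules} (hS : S.ShortExact) (w : postMap F S.f ≫ postMap F S.g = 0) :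
    (ShortComplex.mk (postMap F S.f) (postMap F S.g) w).ShortExact := by
  have hFc := VBLib.isCoh_of_isFinLocFree hF
  haveI := hFc.1
  have hfp := HomShQC.isFP_of_isCoh F hFc
  have key : ∀ x : X, Function.Injective (stalkLin (postMap F S.f) x) ∧
      LinearMap.ker (stalkLin (postMap F S.g) x) ≤ LinearMap.range (stalkLin (postMap F S.f) x) ∧
      Function.Surjective (stalkLin (postMap F S.g) x) := by
    intro x
    obtain ⟨hi, he, hs⟩ := stalk_exact hS x
    obtain ⟨h1, h2⟩ := Props.QProj.free_stalk F hF x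
    haveI := h1
    have b := HomShQC.evalStalk_bijective F S.X₁ hfp x
    have b₂ := HomShQC.evalStalk_bijective F S.X₂ hfp x
    have b₃ := HomShQC.evalStalk_bijective F S.X₃ hfp x
    refine ⟨fun u v huv => b.1 (LinearMap.ext fun t => hi ?_), fun t ht => ?_, fun t => ?_⟩
    · have := congrArg (RefHull.evalStalk F S.X₂ x) huv
      rw [evalStalk_postMap, evalStalk_postMap] at this
      exact LinearMap.congr_fun this t
    · have h3 := congrArg (RefHull.evalStalk F S.X₃ x) (LinearMap.mem_ker.1 ht)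
      rw [evalStalk_postMap, map_zero] at h3
      let e := LinearEquiv.ofInjective _ hi
      let ψ : RefHull.StalkHom F S.X₁ x := e.symm.toLinearMap.comp
        ((RefHull.evalStalk F S.X₂ x t).codRestrict _ fun v => (he _).1 (LinearMap.congr_fun h3 v))
      obtain ⟨u, hu⟩ := b.2 ψ
      refine ⟨u, b₂.1 ?_⟩
      rw [evalStalk_postMap, hu]
      refine LinearMap.ext fun v => ?_
      exact congrArg Subtype.val (e.apply_symm_apply _)
    · obtain ⟨l, hl⟩ := Module.projective_lifting_property (stalkLin S.g x) (RefHull.evalStalk F S.X₃ x t) hs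
      obtain ⟨u, hu⟩ := b₂.2 l
      exact ⟨u, b₃.1 (by rw [evalStalk_postMap, hu, hl])⟩
  exact
    { exact := Omega.Stalks.exact_of_stalk _ fun x => (key x).2.1
      mono_f := Omega.Stalks.mono_of_stalk fun x => (key x).1
      epi_g := Omega.Stalks.epi_of_stalk fun x => (key x).2.2 }

lemma postMap_comp_eq_zero {S : ShortComplex X.Modules} (F : X.Modules) :
    postMap F S.f ≫ postMap F S.g = 0 := by
  ext U h
  refine Subtype.ext (funext fun x => ?_)
  show (RefHull.stalkMapₗ S.g x.1).comp ((RefHull.stalkMapₗ S.f x.1).comp (h.1 x)) = 0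
  refine LinearMap.ext fun t => ?_
  rw [stalkMapₗ_eq, stalkMapₗ_eq, LinearMap.comp_apply, LinearMap.comp_apply,
    ← VBLib.GenusZero.stalkLin_comp_apply, S.zero]
  exact Omega.Stalks.stalkLin_zero _ _

end post

section tens

variable [IsIntegral X]

/-- The rank of a tensor product. -/
theorem rk_tens {M N : X.Modules} (hM : FlatMod.IsFinLocFree M) (hN : FlatMod.IsFinLocFree N) :
    FlatMod.IsFinLocFree (tensM M N) ∧ VBLib.rk (tensM M N) = VBLib.rk M * VBLib.rk N := by
  refine ⟨KFlat.TensorLocFree.isFinLocFree_tensM hM hN, ?_⟩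
  haveI := (VBLib.isCoh_of_isFinLocFree hM).1
  haveI := (VBLib.isCoh_of_isFinLocFree hN).1
  letI : Field (X.presheaf.stalk (genericPoint X)) := inferInstanceAs (Field X.functionField)
  rw [VBLib.rk, VBLib.rk, VBLib.rk, (stalkTensorEquiv M N (genericPoint X)).finrank_eq,
    Module.finrank_tensorProduct]

/-- The sheaf Hom of vector bundles is a vector bundle. -/
theorem rk_homSh [IsLocallyNoetherian X] (hP : ∀ x : X, IsPrincipalIdealRing (X.presheaf.stalk x))
    {F G : X.Modules} (hF : FlatMod.IsFinLocFree F) (hG : FlatMod.IsFinLocFree G) :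
    FlatMod.IsFinLocFree (RefHull.homSh F G) ∧
      VBLib.rk (RefHull.homSh F G) = VBLib.rk F * VBLib.rk G := by
  obtain ⟨hD, hDr⟩ := VBLib.DualDeg.isFinLocFree_dual hP hF
  obtain ⟨hT, hTr⟩ := rk_tens hD hG
  obtain ⟨e⟩ := nonempty_cmp_iso (G := G) hF
  have hc : Coh.IsCoh (RefHull.homSh F G) :=
    HomShEval.QCoh.isCoh_homSh F G (VBLib.isCoh_of_isFinLocFree hF) (VBLib.isCoh_of_isFinLocFree hG)
  haveI := hc.1
  refine ⟨VBLib.isFinLocFree_of_mono hP e.inv hT, ?_⟩
  rw [← hDr, ← hTr]
  exact le_antisymm (VBLib.rk_le_of_mono e.inv (VBLib.isCoh_of_isFinLocFree hT))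
    (VBLib.rk_le_of_mono e.hom hc)

end tens

end Groth.Agent.VBHom27
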