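import Groth.Agent.VBHom27.Basic
import Groth.Agent.VBLib.RR
import Groth.Agent.EulerChar.AmpleCurve
import Groth.Agent.ProjTwist.Tensor
import Groth.Agent.HomShEval.Reflexive

/-!
# Serre duality for vector bundles on a curve, and its consequences for slopes
-/

universe u

open CategoryTheory AlgebraicGeometry Limits Opposite TopologicalSpace
open Groth.Agent.PullStalk.Sky Groth.Agent.PullStalk.Exact Groth.Agent.VBLib Groth.Agent.VBLib.GenusZero
open Groth.Agent.KFlat.StalkTensor

set_option linter.style.haveILetI false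

noncomputable section

namespace Groth.Agent.VBHom27

variable {k : Type u} [Field k] {X : Scheme.{u}} [X.Over (Spec (CommRingCat.of k))] [IsIntegral X]

section degree

variable (hX : GoodCurve k X)
include hX

/-- The degree of a tensor product. -/
theorem dg_tens {M N : X.Modules} (hM : FlatMod.IsFinLocFree M) (hN : FlatMod.IsFinLocFree N) :
    dg k (tensM M N) = rk M * dg k N + rk N * dg k M := by
  haveI := hX.proper
  have h : Curv2.deg k X (tensM M N) (rk M * rk N) =
      rk M * Curv2.deg k X N (rk N) + rk N * Curv2.deg k X M (rk M) :=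
    EulerChar.deg_tens k (ofRank_rk hM) hX.dim.le (ofRank_rk hN)
  rw [dg, (rk_tens hM hN).2]
  exact h

/-- The degree of a sheaf Hom. -/
theorem dg_homSh {F G : X.Modules} (hF : FlatMod.IsFinLocFree F) (hG : FlatMod.IsFinLocFree G) :
    FlatMod.IsFinLocFree (RefHull.homSh F G) ∧ rk (RefHull.homSh F G) = rk F * rk G ∧
      dg k (RefHull.homSh F G) = rk F * dg k G - rk G * dg k F := by
  haveI := hX.isLocallyNoetherian
  obtain ⟨h1, h2⟩ := rk_homSh hX.pid hF hG
  obtain ⟨hD, hDr⟩ := DualDeg.isFinLocFree_dual hX.pid hF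
  obtain ⟨e⟩ := nonempty_cmp_iso (G := G) hF
  refine ⟨h1, h2, ?_⟩
  rw [← (hX.dg_iso e (isCoh_of_isFinLocFree (rk_tens hD hG).1) (isCoh_of_isFinLocFree h1)).1,
    dg_tens hX hD hG, hX.dg_dual hF, hDr]
  ring

/-- An inverse line bundle. -/
theorem exists_inverse {N : X.Modules} (hN : PicF.IsInvertible N) :
    ∃ N' : X.Modules, PicF.IsInvertible N' ∧ dg k N' = - dg k N ∧
      Nonempty (CohB1.tensorMod N N' ≅ Coh.structureModule X) := by
  haveI := hX.isLocallyNoetherian
  obtain ⟨h1, h2⟩ := DualDeg.invertible_dual hN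
  exact ⟨_, h1, hX.dg_dual (isFinLocFree_of_ofRank (ofRank_one_of_invertible hN)), h2⟩

omit hX [IsIntegral X] in
/-- Undoing a twist. -/
theorem nonempty_untwist {N N' : X.Modules} (e : CohB1.tensorMod N' N ≅ Coh.structureModule X)
    (E : X.Modules) : Nonempty (CohB1.tensorMod N' (CohB1.tensorMod N E) ≅ E) :=
  ⟨(ProjTwist.tensAssoc N' N E).symm ≪≫ ProjTwist.tensCongr e (Iso.refl E) ≪≫ ProjTwist.oneTens E⟩

/-- Subbundles of a twist come from subbundles. -/
theorem exists_sub_twist {N E G : X.Modules} (hN : PicF.IsInvertible N)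
    (hG : FlatMod.IsFinLocFree G) (i : G ⟶ CohB1.tensorMod N E) [Mono i] :
    ∃ (G' : X.Modules) (j : G' ⟶ E), Mono j ∧ FlatMod.IsFinLocFree G' ∧ rk G' = rk G ∧
      dg k G' = dg k G - rk G * dg k N := by
  obtain ⟨N', hN', hd, ⟨e⟩⟩ := exists_inverse hX hN
  have hN'r := ofRank_one_of_invertible hN'
  have hN'f := isFinLocFree_of_ofRank hN'r
  obtain ⟨e'⟩ := nonempty_untwist (ProjTwist.tensComm N' N ≪≫ e) E
  obtain ⟨j, hj⟩ : ∃ j : CohDev.tens N' G ⟶ CohDev.tens N' (CohB1.tensorMod N E), Mono j :=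
    ⟨_, CohDev.mono_tens_map hN'r i⟩
  obtain ⟨h1, h2⟩ := rk_tens hN'f hG
  have h3 := dg_tens hX hN'f hG
  rw [rk_eq hN'r] at h2 h3
  rw [hd] at h3
  refine ⟨CohDev.tens N' G, j ≫ e'.hom, mono_comp j e'.hom, h1, ?_, ?_⟩
  · rw [show rk (CohDev.tens N' G) = _ from h2, one_mul]
  · rw [show dg k (CohDev.tens N' G) = _ from h3]
    push_cast
    ring

/-- Modules of positive rank are nonzero. -/
theorem not_isZero {M : X.Modules} (hM : Coh.IsCoh M) (h : rk M ≠ 0) : ¬ IsZero M := fun hz => by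
  have hz' : IsZero (cokernel (𝟙 M)) := isZero_cokernel_of_epi _
  have h1 := (hX.dg_iso (hz.iso hz') hM (isCoh_cokernel _ hM hM)).2
  have h2 := (hX.dg_mono_cokernel (𝟙 M) hM hM).2
  omega

/-- A form on `𝓗om(B, A)` gives a map `A ⟶ B`. -/
theorem exists_hom_of_form {A B : X.Modules} (hA : FlatMod.IsFinLocFree A) (hB : FlatMod.IsFinLocFree B)
    (χ : RefHull.homSh B A ⟶ Coh.structureModule X) (hχ : χ ≠ 0) : ∃ f : A ⟶ B, f ≠ 0 := by
  haveI := hX.isLocallyNoetherian
  haveI := isIso_cmp A hB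
  let χ' : tensM (RefHull.dual B) A ⟶ Coh.structureModule X := cmp B A ≫ χ
  let P : ∀ U : X.Opens, Γ(A, U) →ₗ[Γ(X, U)] Γ(RefHull.dual B, U) →ₗ[Γ(X, U)] Γ(Coh.structureModule X, U) :=
    fun U => LinearMap.mk₂ _ (fun a θ => χ'.app U (tmulSec U θ a))
      (fun a a' θ => by rw [tmulSec_add_right, map_add])
      (fun r a θ => by rw [tmulSec_smul_right, Scheme.Modules.Hom.app_smul])
      (fun a θ θ' => by rw [tmulSec_add_left, map_add])
      (fun r a θ => by rw [tmulSec_smul_left, Scheme.Modules.Hom.app_smul])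
  have hP : ∀ (U V : X.Opens) (h : V ≤ U) (a : Γ(A, U)) (θ : Γ(RefHull.dual B, U)),
      QCoh.res (Coh.structureModule X) h (P U a θ) = P V (QCoh.res A h a) (QCoh.res (RefHull.dual B) h θ) := by
    intro U V h a θ
    show QCoh.res (Coh.structureModule X) h (χ'.app U (tmulSec U θ a)) = χ'.app V (tmulSec V _ _)
    have e1 : QCoh.res (tensM (RefHull.dual B) A) h (tmulSec U θ a) =
        tmulSec V (QCoh.res (RefHull.dual B) h θ) (QCoh.res A h a) := tmulSec_res (homOfLE h) θ a
    rw [← e1]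
    exact (NatTrans.naturality_apply χ'.mapPresheaf (homOfLE h).op (tmulSec U θ a)).symm
  let f₀ : A ⟶ RefHull.homSh (RefHull.dual B) (Coh.structureModule X) := Curry.hom P hP
  have hBc := isCoh_of_isFinLocFree hB
  haveI := hBc.1
  haveI : IsIso (RefHull.bidualMap B) := (HomShEval.Reflexive.isReflexive_iff B hBc).2 fun x => by
    obtain ⟨h1, h2⟩ := Props.QProj.free_stalk B hB x
    haveI := h1
    haveI := h2
    exact (inferInstance : Module.IsReflexive (X.presheaf.stalk x) (B.presheaf.stalk x))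
  refine ⟨f₀ ≫ inv (RefHull.bidualMap B), fun h => ?_⟩
  have hf₀ : f₀ = 0 := by rwa [IsIso.comp_inv_eq, zero_comp] at h
  apply hχ
  rw [← cancel_epi (cmp B A), comp_zero]
  refine Omega.Stalks.hom_ext_stalk fun x => hom_ext_tgerm _ _ fun U hx θ a => ?_
  show stalkLin χ' x (tgerm _ _ x U hx θ a) = stalkLin (0 : tensM (RefHull.dual B) A ⟶ Coh.structureModule X) x _
  rw [Omega.Stalks.stalkLin_zero, tgerm, stalkLin_germ]
  have h2 := Curry.hom_germ P hP a ⟨x, hx⟩ U le_rfl hx θ
  rw [show Curry.hom P hP = (0 : A ⟶ RefHull.homSh (RefHull.dual B) (Coh.structureModule X)) from hf₀] at h2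
  rw [show QCoh.res A (le_refl U) a = a from QCoh.res_self A le_rfl a] at h2
  exact h2.symm

end degree

omit [IsIntegral X] in
/-- Scalar endomorphisms, read on morphisms of modules. -/
theorem eq_smul_id {E : X.Modules} (φ : E ⟶ E) (c : k)
    (h : (SheafOfModules.toSheaf X.ringCatSheaf).map φ =
      Coh.smulAb E (Coh.toGlobal (X ↘ Spec (CommRingCat.of k)) c)) : φ = c • 𝟙 E :=
  (SheafOfModules.toSheaf X.ringCatSheaf).map_injective (h.trans (by rw [KLin.smul_id]; rfl))

variable (k X) in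
/-- A line bundle playing the role of the sheaf of differentials. -/
structure Dualizing (ω : X.Modules) : Prop where
  inv : PicF.IsInvertible ω
  deg : Curv2.deg k X ω 1 = 2 * (Curv2.genus k X : ℤ) - 2
  h1 : ¬ Subsingleton (Coh.HH X ω 1)
  glob : Function.Bijective (Coh.toGlobal (X ↘ Spec (CommRingCat.of k)))

section duality

variable (hX : GoodCurve k X) {ω : X.Modules}
include hX

/-- A nonzero map to a line bundle is surjective on `H¹`. -/
theorem surjective_mapL_one_of_ne_zero {E : X.Modules} (hE : FlatMod.IsFinLocFree E)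
    (hω : PicF.IsInvertible ω) (φ : E ⟶ ω) (hφ : φ ≠ 0) :
    Function.Surjective (CurveCoh.mapL k φ 1) := by
  haveI := hX.isLocallyNoetherian
  haveI := hX.proper
  have hωr := ofRank_one_of_invertible hω
  have hωc := isCoh_of_ofRank hωr
  have hEc := isCoh_of_isFinLocFree hE
  have hI := isFinLocFree_image hX.pid φ hEc (isFinLocFree_of_ofRank hωr)
  have hIc := isCoh_of_isFinLocFree hI
  have hIpos : rk (Abelian.image φ) ≠ 0 := fun h => hφ (eq_zero_of_rk_image φ hI h)
  have hIle := rk_le_of_mono (Abelian.image.ι φ) hωc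
  rw [rk_eq hωr] at hIle
  -- the cokernel of the image is torsion
  let T := ShortComplex.mk (Abelian.image.ι φ) (cokernel.π (Abelian.image.ι φ)) (cokernel.condition _)
  have hT : T.ShortExact := { exact := T.exact_of_g_is_cokernel (cokernelIsCokernel _) }
  have hCc := isCoh_cokernel (Abelian.image.ι φ) hIc hωc
  have hC0 : rk (cokernel (Abelian.image.ι φ)) = 0 := by
    have := (hX.dg_mono_cokernel (Abelian.image.ι φ) hIc hωc).2
    rw [rk_eq hωr] at this
    omega
  haveI := hX.isFlasque_of_rk_zero hCc hC0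
  haveI : Subsingleton (Coh.HH X T.X₃ 1) :=
    CohTop.Flasque.H_subsingleton (X := X.toPresheafedSpace.carrier) (Coh.toAb _) 0
  -- the kernel has no `H²`
  let S := ShortComplex.mk (kernel.ι φ) (Abelian.factorThruImage φ)
    ((cancel_mono (Abelian.image.ι φ)).mp (by simp))
  have hS : S.ShortExact := by
    refine { exact := ShortComplex.exact_of_f_is_kernel _ ?_ }
    refine KernelFork.IsLimit.ofι' _ _ fun {A} a ha => ⟨kernel.lift φ a ?_, kernel.lift_ι _ _ _⟩
    rw [← Abelian.image.fac φ, ← Category.assoc]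
    exact (congrArg (· ≫ Abelian.image.ι φ) ha).trans zero_comp
  haveI : S.X₁.IsQuasicoherent := (isCoh_kernel φ hEc hωc).1
  haveI : Subsingleton (Coh.HH X S.X₁ 2) := CurveCoh.subsingleton_HH (k := k) S.X₁ hX.val hX.dim 2 le_rfl
  rw [← Abelian.image.fac φ, mapL_comp, LinearMap.coe_comp]
  refine Function.Surjective.comp (fun y => ?_) fun y => ?_
  · exact ((CurveCoh.exact_mapL k hT 1) y).mp (Subsingleton.elim _ _)
  · exact ((CurveCoh.exact_mapL_deltaL k hS 1 2 rfl) y).mp (Subsingleton.elim _ _)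

omit hX in
/-- Scalars on `H⁰` are scalars on sections. -/
lemma toSec_smul (M : X.Modules) (c : k) (y : Coh.HH X M 0) :
    toSec M (c • y) = (show Γ(X, ⊤) from Coh.toGlobal (X ↘ Spec (CommRingCat.of k)) c) • toSec M y := by
  have he : toSec M (c • y) = X.presheaf.map (homOfLE (le_refl (⊤ : X.Opens))).op
      (Coh.toGlobal (X ↘ Spec (CommRingCat.of k)) c) • toSec M y :=
    (Sheaf.H.equiv₀_naturality
      (f := Coh.smulAb M (Coh.toGlobal (X ↘ Spec (CommRingCat.of k)) c)) isTerminalTop y).symm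
  rw [he, show X.presheaf.map (homOfLE (le_refl (⊤ : X.Opens))).op = 𝟙 _ from X.presheaf.map_id _]
  rfl

variable (k) in
omit hX in
/-- `H⁰(𝓗om(E, ω)) ⟶ Hom(H¹E, H¹ω)`. -/
def dualityMap (E ω : X.Modules) :
    Coh.HH X (RefHull.homSh E ω) 0 →ₗ[k] (Coh.HH X E 1 →ₗ[k] Coh.HH X ω 1) where
  toFun y := CurveCoh.mapL k (homOf (toSec _ y)) 1
  map_add' y z := by rw [map_add, homOf_add, mapL_add]
  map_smul' c y := by rw [toSec_smul, homOf_smul, mapL_smul, RingHom.id_apply]

variable (hω : Dualizing k X ω)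
include hω

/-- Half of duality. -/
theorem finrank_homSh_le {E : X.Modules} (hE : FlatMod.IsFinLocFree E) :
    Module.finrank k (Coh.HH X (RefHull.homSh E ω) 0) ≤ Module.finrank k (Coh.HH X E 1) := by
  haveI := hX.isLocallyNoetherian
  haveI := hX.proper
  have hωc := isCoh_of_invertible hω.inv
  have hEc := isCoh_of_isFinLocFree hE
  haveI := hEc.1
  haveI := CurveCoh.finite_HH_one (k := k) E hX.val hX.dim hEc
  haveI := hωc.1
  haveI := CurveCoh.finite_HH_one (k := k) ω hX.val hX.dim hωc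
  haveI : Nontrivial (Coh.HH X ω 1) := not_subsingleton_iff_nontrivial.1 hω.h1
  obtain ⟨y₀, hy₀⟩ := exists_ne (0 : Coh.HH X ω 1)
  obtain ⟨t, ht⟩ : ∃ t : Module.Dual k (Coh.HH X ω 1), t y₀ ≠ 0 := by
    by_contra h
    push Not at h
    exact hy₀ ((Module.forall_dual_apply_eq_zero_iff k y₀).1 h)
  let D : Coh.HH X (RefHull.homSh E ω) 0 →ₗ[k] Module.Dual k (Coh.HH X E 1) :=
    (LinearMap.llcomp k _ _ _ t).comp (dualityMap k E ω)
  have hD : Function.Injective D := by
    rw [injective_iff_map_eq_zero]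
    intro y hy
    by_contra hne
    have hφ : homOf (toSec _ y) ≠ 0 := fun h =>
      hne ((toSec _).injective ((homOf_injective _ h).trans (map_zero _).symm))
    obtain ⟨z, hz⟩ := surjective_mapL_one_of_ne_zero hX hE hω.inv _ hφ y₀
    exact ht (by rw [← hz]; exact LinearMap.congr_fun hy z)
  exact (LinearMap.finrank_le_finrank_of_injective hD).trans (Subspace.dual_finrank_eq).le

/-- Serre duality: `h¹(E) = h⁰ 𝓗om(E, ω)`. -/
theorem serre_duality {E : X.Modules} (hE : FlatMod.IsFinLocFree E) :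
    Module.finrank k (Coh.HH X E 1) = Module.finrank k (Coh.HH X (RefHull.homSh E ω) 0) := by
  haveI := hX.isLocallyNoetherian
  haveI := hX.proper
  have hωr := ofRank_one_of_invertible hω.inv
  have hωf := isFinLocFree_of_ofRank hωr
  obtain ⟨h1, h2, h3⟩ := dg_homSh hX hE hωf
  obtain ⟨g1, -, -⟩ := dg_homSh hX h1 hωf
  have a1 := finrank_homSh_le hX hω hE
  have a2 := finrank_homSh_le hX hω h1
  haveI := mono_toBidual hE hω.inv
  have a3 := hX.finrank_H0_le (toBidual E ω) (isCoh_of_isFinLocFree g1)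
  have r1 := hX.riemannRoch hω.glob (isCoh_of_isFinLocFree hE)
  have r2 := hX.riemannRoch hω.glob (isCoh_of_isFinLocFree h1)
  rw [h2, h3, rk_eq hωr, ← dg_eq hωr, hω.deg] at r2
  push_cast at r2
  linarith

/-- A bundle with nonzero `H¹` has a nonzero map to `ω`. -/
theorem exists_hom_of_h1 {E : X.Modules} (hE : FlatMod.IsFinLocFree E)
    (h : ¬ Subsingleton (Coh.HH X E 1)) : ∃ φ : E ⟶ ω, φ ≠ 0 := by
  haveI := hX.proper
  have hEc := isCoh_of_isFinLocFree hE
  haveI := hEc.1
  haveI := CurveCoh.finite_HH_one (k := k) E hX.val hX.dim hEc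
  haveI := not_subsingleton_iff_nontrivial.1 h
  have hpos : 0 < Module.finrank k (Coh.HH X E 1) := Module.finrank_pos
  rw [serre_duality hX hω hE] at hpos
  haveI : Nontrivial (Coh.HH X (RefHull.homSh E ω) 0) := Module.nontrivial_of_finrank_pos (R := k) hpos
  obtain ⟨y, hy⟩ := exists_ne (0 : Coh.HH X (RefHull.homSh E ω) 0)
  exact ⟨homOf (toSec _ y), fun h => hy ((toSec _).injective ((homOf_injective _ h).trans (map_zero _).symm))⟩

/-- A bundle with nonzero `H¹` has a corank one subbundle of large degree. -/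
theorem exists_sub_of_h1 {E : X.Modules} (hE : FlatMod.IsFinLocFree E)
    (h : ¬ Subsingleton (Coh.HH X E 1)) :
    ∃ (K : X.Modules) (i : K ⟶ E), Mono i ∧ FlatMod.IsFinLocFree K ∧ rk K + 1 = rk E ∧
      dg k E ≤ dg k K + (2 * (Curv2.genus k X : ℤ) - 2) := by
  haveI := hX.isLocallyNoetherian
  obtain ⟨φ, hφ⟩ := exists_hom_of_h1 hX hω hE h
  have hωr := ofRank_one_of_invertible hω.inv
  have hωf := isFinLocFree_of_ofRank hωr
  have hωc := isCoh_of_ofRank hωr
  have hEc := isCoh_of_isFinLocFree hE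
  have hI := isFinLocFree_image hX.pid φ hEc hωf
  obtain ⟨d, r⟩ := hX.dg_kernel_image φ hEc hωc
  have hIpos : rk (Abelian.image φ) ≠ 0 := fun h => hφ (eq_zero_of_rk_image φ hI h)
  have hIle := rk_le_of_mono (Abelian.image.ι φ) hωc
  rw [rk_eq hωr] at hIle
  have hdI := (hX.dg_le_of_mono (Abelian.image.ι φ) (isCoh_of_isFinLocFree hI) hωc
    (by rw [rk_eq hωr]; omega)).1
  rw [← dg_eq hωr, hω.deg] at hdI
  exact ⟨kernel φ, kernel.ι φ, inferInstance, isFinLocFree_kernel hX.pid φ hE hωc, by omega, by omega⟩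

/-- `H¹` vanishes when all corank one subbundles have small degree. -/
theorem h1_subsingleton_of_slope {E : X.Modules} (hE : FlatMod.IsFinLocFree E) {a : ℤ} (_ : 0 < rk E)
    (hsub : ∀ (G : X.Modules) (i : G ⟶ E), Mono i → FlatMod.IsFinLocFree G → 0 < rk G →
      rk G + 1 = rk E → dg k G * rk E ≤ a * rk G)
    (hbig : a * ((rk E : ℤ) - 1) + rk E * (2 * (Curv2.genus k X : ℤ) - 2) < rk E * dg k E) :
    Subsingleton (Coh.HH X E 1) := by
  by_contra h
  obtain ⟨K, i, hi, hK, hr, hd⟩ := exists_sub_of_h1 hX hω hE h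
  have h1 : (rk E : ℤ) = rk K + 1 := by exact_mod_cast hr.symm
  have h2 : dg k K * rk E ≤ a * rk K := by
    rcases Nat.eq_zero_or_pos (rk K) with h0 | hpos
    · rw [hX.dg_eq_zero_of_isZero (isCoh_of_isFinLocFree hK) (isZero_of_rk_eq_zero hK h0), h0]
      simp
    · exact hsub K i hi hK hpos hr
  have h3 : dg k E * rk E ≤ (dg k K + (2 * (Curv2.genus k X : ℤ) - 2)) * rk E :=
    mul_le_mul_of_nonneg_right hd (Int.natCast_nonneg _)
  have h4 : a * ((rk E : ℤ) - 1) = a * rk K := by rw [h1]; ring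
  linarith

end duality

section split

omit [IsIntegral X] in
/-- An extension with `H¹` of the Hom sheaf zero splits. -/
theorem isSplitEpi_of_h1 (k : Type u) [Field k] [X.Over (Spec (CommRingCat.of k))]
    [IsLocallyNoetherian X] {S : ShortComplex X.Modules} (hS : S.ShortExact)
    (h₃ : FlatMod.IsFinLocFree S.X₃)
    (h : Subsingleton (Coh.HH X (RefHull.homSh S.X₃ S.X₁) 1)) : IsSplitEpi S.g := by
  have hS' := shortExact_postMap (F := S.X₃) h₃ hS (postMap_comp_eq_zero _)
  obtain ⟨y, hy⟩ := ((CurveCoh.exact_mapL_deltaL k hS' 0 1 rfl)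
    ((toSec _).symm (secOf (𝟙 S.X₃)))).mp (Subsingleton.elim (α := Coh.HH X (RefHull.homSh S.X₃ S.X₁) 1) _ _)
  refine ⟨⟨⟨homOf (toSec _ y), ?_⟩⟩⟩
  rw [← homOf_postMap, ← toSec_mapL (k := k), hy, AddEquiv.apply_symm_apply, homOf_secOf]

end split

end Groth.Agent.VBHom27
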