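import Groth.Agent.VBHom27.Pair
import Groth.Agent.ProjTwist.Tensor

/-!
# Semistable pairs: subobjects and quotients of the same slope
-/

universe u

open CategoryTheory AlgebraicGeometry Limits
open Groth.Agent.VBLib

noncomputable section

namespace Groth.Agent.VBHom27.Higgs

variable {X : Scheme.{u}} {k : Type u} [Field k] [X.Over (Spec (CommRingCat.of k))] [IsIntegral X]

variable (k) in
/-- Semistability of a pair, on invariant subbundles. -/
def PSS (T : X.Modules ⥤ X.Modules) (E : X.Modules) (φ : E ⟶ T.obj E) : Prop :=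
  ∀ (G : X.Modules) (j : G ⟶ E) (χ : G ⟶ T.obj G), Mono j → FlatMod.IsFinLocFree G → 0 < rk G →
    χ ≫ T.map j = j ≫ φ → dg k G * (rk E : ℤ) ≤ dg k E * (rk G : ℤ)

variable (hX : GoodCurve k X) {T : X.Modules ⥤ X.Modules} [T.IsEquivalence]
  (hfree : ∀ {A : X.Modules}, FlatMod.IsFinLocFree A → FlatMod.IsFinLocFree (T.obj A))
include hX

lemma PSS.le_any {E : X.Modules} {φ : E ⟶ T.obj E} (h : PSS k T E φ) {G : X.Modules} (j : G ⟶ E)
    [Mono j] (hG : FlatMod.IsFinLocFree G) (χ : G ⟶ T.obj G) (hχ : χ ≫ T.map j = j ≫ φ) :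
    dg k G * (rk E : ℤ) ≤ dg k E * (rk G : ℤ) := by
  rcases Nat.eq_zero_or_pos (rk G) with h0 | hpos
  · rw [hX.dg_eq_zero_of_isZero (isCoh_of_isFinLocFree hG) (isZero_of_rk_eq_zero hG h0), h0]
    simp
  · exact h G j χ inferInstance hG hpos hχ

/-- An invariant subbundle of the same slope is semistable. -/
theorem PSS.sub {E F : X.Modules} {φ : E ⟶ T.obj E} (h : PSS k T E φ) (i : F ⟶ E) [Mono i]
    (ψ : F ⟶ T.obj F) (hψ : ψ ≫ T.map i = i ≫ φ) (hE : 0 < rk E)
    (hs : dg k F * (rk E : ℤ) = dg k E * (rk F : ℤ)) : PSS k T F ψ := by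
  intro G j χ hj hG hpos hχ
  haveI := hj
  have h1 := h.le_any hX (j ≫ i) hG χ (by rw [T.map_comp, reassoc_of% hχ, hψ, Category.assoc])
  refine le_of_mul_le_mul_right ?_ (show (0 : ℤ) < rk E by exact_mod_cast hE)
  calc dg k G * (rk F : ℤ) * (rk E : ℤ) = dg k G * (rk E : ℤ) * (rk F : ℤ) := by ring
    _ ≤ dg k E * (rk G : ℤ) * (rk F : ℤ) := mul_le_mul_of_nonneg_right h1 (Int.natCast_nonneg _)
    _ = dg k F * (rk E : ℤ) * (rk G : ℤ) := by rw [hs]; ring
    _ = dg k F * (rk G : ℤ) * (rk E : ℤ) := by ring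

include hfree

/-- An invariant subbundle of the same slope is saturated, with semistable quotient. -/
theorem PSS.quot {E F : X.Modules} {φ : E ⟶ T.obj E} (h : PSS k T E φ) (hEf : FlatMod.IsFinLocFree E)
    (hE : 0 < rk E) (i : F ⟶ E) [Mono i] (hF : FlatMod.IsFinLocFree F) (ψ : F ⟶ T.obj F)
    (hψ : ψ ≫ T.map i = i ≫ φ) (hs : dg k F * (rk E : ℤ) = dg k E * (rk F : ℤ)) :
    FlatMod.IsFinLocFree (cokernel i) ∧ rk E = rk F + rk (cokernel i) ∧ dg k E = dg k F + dg k (cokernel i) ∧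
      ∀ φ' : cokernel i ⟶ T.obj (cokernel i), cokernel.π i ≫ φ' = φ ≫ T.map (cokernel.π i) →
        PSS k T (cokernel i) φ' := by
  haveI := hX.isLocallyNoetherian
  have hEc := isCoh_of_isFinLocFree hEf
  have hFc := isCoh_of_isFinLocFree hF
  obtain ⟨hd, hr⟩ := hX.dg_mono_cokernel i hFc hEc
  have hC : FlatMod.IsFinLocFree (cokernel i) := by
    obtain ⟨S, j, i', hji, hj, hi', hS, hQ, hSr, hSd⟩ := hX.exists_saturation i hFc hEf
    haveI := hj
    haveI := hi'
    -- the saturation is invariant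
    let g : S ⟶ T.obj (cokernel i') := i' ≫ φ ≫ T.map (cokernel.π i')
    have hjg : j ≫ g = 0 := by
      simp only [g, ← Category.assoc, hji]
      rw [← hψ, Category.assoc, ← T.map_comp, ← hji, Category.assoc, cokernel.condition, comp_zero,
        T.map_zero, comp_zero]
    have hSc := isCoh_of_isFinLocFree hS
    have hTQ := hfree hQ
    obtain ⟨c1, c2⟩ := hX.dg_mono_cokernel j hFc hSc
    have hDc := isCoh_cokernel j hFc hSc
    let g' := cokernel.desc j g hjg
    have hg' : g' = 0 := by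
      have hI := isFinLocFree_image hX.pid g' hDc hTQ
      obtain ⟨-, e2⟩ := hX.dg_kernel_image g' hDc (isCoh_of_isFinLocFree hTQ)
      exact eq_zero_of_rk_image g' hI (by omega)
    have hg : g = 0 := by rw [← cokernel.π_desc j g hjg, show cokernel.desc j g hjg = 0 from hg', comp_zero]
    let K := ShortComplex.mk i' (cokernel.π i') (cokernel.condition i')
    have hK : K.Exact := K.exact_of_g_is_cokernel (cokernelIsCokernel i')
    haveI : Mono K.f := hi'
    obtain ⟨χ, hχ⟩ := KernelFork.IsLimit.lift' (KernelFork.mapIsLimit _ hK.fIsKernel T) (i' ≫ φ)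
      (by rw [Category.assoc]; exact hg)
    have h1 := h.le_any hX i' hS χ hχ
    rw [hSr] at h1
    have h2 : dg k S ≤ dg k F := le_of_mul_le_mul_right (h1.trans_eq hs.symm)
      (show (0 : ℤ) < rk E by exact_mod_cast hE)
    haveI := (hX.dg_le_of_mono j hFc hSc hSr.symm).2 (le_antisymm hSd h2)
    exact KFlat.LocFree.isFinLocFree_of_iso ((cokernelEpiComp j i').symm ≪≫ cokernelIsoOfEq hji) hQ
  refine ⟨hC, by omega, by omega, fun φ' hφ' G j χ hj hG hpos hχ => ?_⟩
  haveI := hj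
  obtain ⟨c, hc⟩ := exists_cokernel_desc (F := T) j hχ.symm
  let q := cokernel.π i ≫ cokernel.π j
  have hq : q ≫ c = φ ≫ T.map q := by
    simp only [q, Category.assoc, T.map_comp]
    rw [hc, reassoc_of% hφ']
  obtain ⟨χP, hχP⟩ := exists_kernel_restrict (F := T) q hq
  have hGc := isCoh_of_isFinLocFree hG
  have hCc := isCoh_of_isFinLocFree hC
  have hDc := isCoh_cokernel j hGc hCc
  have hPf := isFinLocFree_kernel hX.pid q hEf hDc
  obtain ⟨d2, r2⟩ := hX.dg_mono_cokernel j hGc hCc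
  haveI : Epi q := epi_comp _ _
  haveI : Epi (Abelian.image.ι q) := epi_of_epi_fac (Abelian.image.fac q)
  haveI : IsIso (Abelian.image.ι q) := isIso_of_mono_of_epi _
  obtain ⟨d3, r3⟩ := hX.dg_kernel_image q hEc hDc
  obtain ⟨d4, r4⟩ := hX.dg_iso (asIso (Abelian.image.ι q)) (isCoh_image q hEc hDc) hDc
  have h1 := h.le_any hX (kernel.ι q) hPf χP hχP
  have eP : rk (kernel q) = rk F + rk G := by omega
  have eD : dg k (kernel q) = dg k F + dg k G := by omega
  rw [eP, eD] at h1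
  have eC : (rk (cokernel i) : ℤ) = rk E - rk F := by omega
  have eCd : dg k (cokernel i) = dg k E - dg k F := by omega
  refine le_of_mul_le_mul_right ?_ (show (0 : ℤ) < rk E by exact_mod_cast hE)
  have h2 : dg k G * (rk E : ℤ) ≤ dg k E * (rk G : ℤ) := by
    push_cast at h1
    linarith
  have h3 := mul_le_mul_of_nonneg_right h2 (Int.natCast_nonneg (rk (cokernel i)))
  rw [eC] at h3 ⊢
  rw [eCd]
  have h4 : dg k F * (rk E : ℤ) * (rk G : ℤ) = dg k E * (rk F : ℤ) * (rk G : ℤ) := by rw [hs]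
  linarith

end Groth.Agent.VBHom27.Higgs
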