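import Groth.Agent.VBHom27.Curve
import Groth.Agent.PullFlat.Invertible
import Groth.Agent.VBLib.Slope
import Mathlib.CategoryTheory.Abelian.Exact

/-!
# Twisted endomorphisms of bundles: invariant subsheaves
-/

universe u

open CategoryTheory AlgebraicGeometry Limits Opposite TopologicalSpace
open Groth.Agent.VBLib

set_option linter.style.haveILetI false

noncomputable section

namespace Groth.Agent.VBHom27

variable {X : Scheme.{u}}

/-- Tensoring on the right. -/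
abbrev tw (L : X.Modules) : X.Modules ⥤ X.Modules := (DCoh.tensorBi (X := X)).flip.obj L

/-- Tensoring with a line bundle is an equivalence. -/
theorem isEquivalence_tw {L : X.Modules} (hL : PicF.IsInvertible L) : (tw L).IsEquivalence := by
  obtain ⟨M, -, ⟨e⟩⟩ := PicLaw.exists_inverse hL
  exact @Functor.isEquivalence_of_iso _ _ _ _ _ _ ((KFlat.tensorBiFlipIso (O := X.sheaf)).app L).symm
    (PullFlat.isEquivalence_of_iso_unit (O := X.sheaf) (L := L) (N := M) e)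

section invariant

variable {F : X.Modules ⥤ X.Modules} [F.IsEquivalence] {A B : X.Modules} {a : A ⟶ F.obj A} {b : B ⟶ F.obj B}
  (f : A ⟶ B) (hf : f ≫ b = a ≫ F.map f)

include hf

/-- The kernel of a map of pairs is invariant. -/
theorem exists_kernel_restrict :
    ∃ χ : kernel f ⟶ F.obj (kernel f), χ ≫ F.map (kernel.ι f) = kernel.ι f ≫ a := by
  obtain ⟨l, hl⟩ := KernelFork.IsLimit.lift' (KernelFork.mapIsLimit _ (kernelIsKernel f) F)
    (kernel.ι f ≫ a) (by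
      show (kernel.ι f ≫ a) ≫ F.map f = 0
      rw [Category.assoc, ← hf, kernel.condition_assoc, zero_comp])
  exact ⟨l, hl⟩

/-- The cokernel of a map of pairs is a pair. -/
theorem exists_cokernel_desc :
    ∃ χ : cokernel f ⟶ F.obj (cokernel f), cokernel.π f ≫ χ = b ≫ F.map (cokernel.π f) :=
  ⟨cokernel.desc f (b ≫ F.map (cokernel.π f)) (by
    rw [← Category.assoc, hf, Category.assoc, ← F.map_comp, cokernel.condition, F.map_zero, comp_zero]),
    cokernel.π_desc _ _ _⟩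

/-- The image of a map of pairs is invariant. -/
theorem exists_image_restrict :
    ∃ χ : Abelian.image f ⟶ F.obj (Abelian.image f),
      χ ≫ F.map (Abelian.image.ι f) = Abelian.image.ι f ≫ b := by
  obtain ⟨c, hc⟩ := exists_cokernel_desc f hf
  exact exists_kernel_restrict (cokernel.π f) hc

end invariant

variable {k : Type u} [Field k] [X.Over (Spec (CommRingCat.of k))] [IsIntegral X] (hX : GoodCurve k X)
include hX

/-- Twisting by a line bundle. -/
theorem dg_tw {L A : X.Modules} (hL : PicF.IsInvertible L) (hA : FlatMod.IsFinLocFree A) :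
    FlatMod.IsFinLocFree ((tw L).obj A) ∧ rk ((tw L).obj A) = rk A ∧
      dg k ((tw L).obj A) = dg k A + rk A * dg k L := by
  have hLr := ofRank_one_of_invertible hL
  have hLf := isFinLocFree_of_ofRank hLr
  obtain ⟨h1, h2⟩ := rk_tens hA hLf
  refine ⟨h1, ?_, ?_⟩
  · show rk (KFlat.StalkTensor.tensM A L) = _
    rw [h2, rk_eq hLr, mul_one]
  · show dg k (KFlat.StalkTensor.tensM A L) = _
    rw [dg_tens hX hA hLf, rk_eq hLr]
    push_cast
    ring

/-- A saturated subbundle of maximal slope and rank; the quotient has smaller slopes. -/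
theorem exists_destab {E : X.Modules} (hE : FlatMod.IsFinLocFree E) (hr : 0 < rk E) :
    ∃ (E₁ : X.Modules) (i : E₁ ⟶ E), Mono i ∧ FlatMod.IsFinLocFree E₁ ∧ 0 < rk E₁ ∧
      FlatMod.IsFinLocFree (cokernel i) ∧ SS k E₁ ∧
      (∀ (G : X.Modules) (j : G ⟶ E), Mono j → FlatMod.IsFinLocFree G → 0 < rk G →
        dg k G * (rk E₁ : ℤ) ≤ dg k E₁ * (rk G : ℤ)) ∧
      ∀ (Q : X.Modules) (j : Q ⟶ cokernel i), Mono j → FlatMod.IsFinLocFree Q → 0 < rk Q →
        dg k Q * (rk E₁ : ℤ) < dg k E₁ * (rk Q : ℤ) := by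
  haveI := hX.isLocallyNoetherian
  obtain ⟨E₀, i₀, hi₀, hE₀, h0, hmax⟩ := hX.exists_max_slope hE hr
  obtain ⟨E₁, j₀, i, -, -, hi, hE₁, hQ, hr1, hd1⟩ := hX.exists_saturation i₀ (isCoh_of_isFinLocFree hE₀) hE
  have hpos : 0 < rk E₁ := hr1 ▸ h0
  have heq : dg k E₁ = dg k E₀ := by
    have := (hmax E₁ i hi hE₁ hpos).1
    rw [hr1] at this
    exact le_antisymm (le_of_mul_le_mul_right this (by exact_mod_cast h0)) hd1
  refine ⟨E₁, i, hi, hE₁, hpos, hQ, fun G j hj hG hGpos => ?_, fun G j hj hG hGpos => ?_,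
    fun Q j hj hQf hQpos => ?_⟩
  · haveI := hj
    haveI := hi
    rw [heq, hr1]
    exact (hmax G (j ≫ i) (mono_comp _ _) hG hGpos).1
  · rw [heq, hr1]
    exact (hmax G j hj hG hGpos).1
  · haveI := hj
    haveI := hi
    obtain ⟨P, l, hl, hP, hPd, hPr⟩ := hX.exists_preimage (cokernel.π i) j hE
      (isCoh_of_isFinLocFree hQ) (isCoh_of_isFinLocFree hQf)
    obtain ⟨d, r⟩ := hX.dg_mono_cokernel i (isCoh_of_isFinLocFree hE₁) (isCoh_of_isFinLocFree hE)
    have hPr' : rk P = rk E₀ + rk Q := by omega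
    have hPd' : dg k P = dg k E₀ + dg k Q := by omega
    obtain ⟨m1, m2⟩ := hmax P l hl hP (by omega)
    rw [hPr', hPd'] at m1 m2
    push_cast at m1 m2
    rw [heq, hr1]
    refine lt_of_le_of_ne (by linarith) fun hcon => ?_
    have := m2 (by linarith)
    omega

/-- Among the subbundles with a property one has maximal slope and, among those, maximal rank. -/
theorem exists_max_slope_pred {E : X.Modules} (hE : FlatMod.IsFinLocFree E) (hr : 0 < rk E)
    (p : ∀ G : X.Modules, (G ⟶ E) → Prop) (hp : p E (𝟙 E)) :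
    ∃ (E₁ : X.Modules) (i₁ : E₁ ⟶ E), Mono i₁ ∧ FlatMod.IsFinLocFree E₁ ∧ 0 < rk E₁ ∧ p E₁ i₁ ∧
      ∀ (G : X.Modules) (j : G ⟶ E), Mono j → FlatMod.IsFinLocFree G → 0 < rk G → p G j →
        dg k G * (rk E₁ : ℤ) ≤ dg k E₁ * (rk G : ℤ) ∧
          (dg k G * (rk E₁ : ℤ) = dg k E₁ * (rk G : ℤ) → rk G ≤ rk E₁) := by
  have hEc := isCoh_of_isFinLocFree hE
  obtain ⟨N, hN⟩ := hX.dg_bddAbove hEc
  let r := rk E
  let L : ℕ := r.factorial
  let key : ℤ → ℕ → ℤ := fun d n => d * ((L / n : ℕ) : ℤ) * ((r : ℤ) + 1) + (n : ℤ)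
  let P : ℤ → Prop := fun z => ∃ (G : X.Modules) (i : G ⟶ E), Mono i ∧ FlatMod.IsFinLocFree G ∧
    0 < rk G ∧ p G i ∧ key (dg k G) (rk G) = z
  have hbdd : ∃ b, ∀ z, P z → z ≤ b := by
    refine ⟨max N 0 * (L : ℤ) * ((r : ℤ) + 1) + r, ?_⟩
    rintro z ⟨G, i, hi, hG, -, -, rfl⟩
    have h1 : dg k G ≤ max N 0 := (hN G i hi (isCoh_of_isFinLocFree hG)).trans (le_max_left _ _)
    have h2 : ((L / rk G : ℕ) : ℤ) ≤ (L : ℤ) := by exact_mod_cast Nat.div_le_self _ _
    have h3 : (rk G : ℤ) ≤ (r : ℤ) := by exact_mod_cast rk_le_of_mono i hEc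
    have h4 : dg k G * ((L / rk G : ℕ) : ℤ) ≤ max N 0 * (L : ℤ) :=
      (mul_le_mul_of_nonneg_right h1 (Int.natCast_nonneg _)).trans
        (mul_le_mul_of_nonneg_left h2 (le_max_right _ _))
    exact add_le_add (mul_le_mul_of_nonneg_right h4 (by omega)) h3
  obtain ⟨z, ⟨E₁, i₁, hi₁, hE₁, hpos, hp₁, rfl⟩, hmax⟩ :=
    Int.exists_greatest_of_bdd hbdd ⟨key (dg k E) r, E, 𝟙 E, inferInstance, hE, hr, hp, rfl⟩
  refine ⟨E₁, i₁, hi₁, hE₁, hpos, hp₁, fun G j hj hG hGpos hpG => ?_⟩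
  have hkey := hmax _ ⟨G, j, hj, hG, hGpos, hpG, rfl⟩
  have hG' : rk G ≤ r := rk_le_of_mono j hEc
  have h1' : rk E₁ ≤ r := rk_le_of_mono i₁ hEc
  have hLG : (L : ℤ) = ((L / rk G : ℕ) : ℤ) * (rk G : ℤ) := by
    exact_mod_cast (Nat.div_mul_cancel (Nat.dvd_factorial hGpos hG')).symm
  have hL1 : (L : ℤ) = ((L / rk E₁ : ℕ) : ℤ) * (rk E₁ : ℤ) := by
    exact_mod_cast (Nat.div_mul_cancel (Nat.dvd_factorial hpos h1')).symm
  have hLpos : (0 : ℤ) < L := by exact_mod_cast r.factorial_pos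
  simp only [key] at hkey
  set a := dg k G * ((L / rk G : ℕ) : ℤ) with ha
  set b := dg k E₁ * ((L / rk E₁ : ℕ) : ℤ) with hb
  have hab : a ≤ b := by
    by_contra hlt
    have h5 : (b + 1) * ((r : ℤ) + 1) ≤ a * ((r : ℤ) + 1) :=
      mul_le_mul_of_nonneg_right (by omega) (by omega)
    have h6 : (rk E₁ : ℤ) ≤ (r : ℤ) := by exact_mod_cast h1'
    have h7 : (0 : ℤ) ≤ (rk G : ℤ) := Int.natCast_nonneg _
    linarith
  have eG : dg k G * (rk E₁ : ℤ) * (L : ℤ) = a * (rk G : ℤ) * (rk E₁ : ℤ) := by rw [hLG, ha]; ring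
  have e1 : dg k E₁ * (rk G : ℤ) * (L : ℤ) = b * (rk G : ℤ) * (rk E₁ : ℤ) := by rw [hL1, hb]; ring
  refine ⟨le_of_mul_le_mul_right ?_ hLpos, fun heq => ?_⟩
  · rw [eG, e1]
    exact mul_le_mul_of_nonneg_right (mul_le_mul_of_nonneg_right hab (Int.natCast_nonneg _))
      (Int.natCast_nonneg _)
  · have h8 := congrArg (fun z : ℤ => z * (L : ℤ)) heq
    simp only [eG, e1] at h8
    have h9 : a = b := mul_right_cancel₀ (by exact_mod_cast hGpos.ne' : (rk G : ℤ) ≠ 0)
      (mul_right_cancel₀ (by exact_mod_cast hpos.ne' : (rk E₁ : ℤ) ≠ 0) h8)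
    rw [h9] at hkey
    omega

end Groth.Agent.VBHom27
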